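import Groth.Agent.ResProp.EF.K65.Out

/-!
# Lemma S on cochains (the last step of 1.4)

`lemmaS : K65.LemmaS p`: (CD2) for `H → G` and (OUT) for `G` give `KillModP p H`.
-/

set_option autoImplicit false

universe u

open TensorProduct

noncomputable section

namespace Groth.Agent.ResProp.EF.K471

open Grp K65

section Cochains

variable {k : Type u} [CommRing k]

lemma assoc_symm_nat {A : Type u} [AddCommGroup A] [Module k A] {M N : Type u} [AddCommGroup M]
    [Module k M] [AddCommGroup N] [Module k N] (f : M →ₗ[k] N) (x : M ⊗[k] (A ⊗[k] A)) :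
    (f.rTensor A).rTensor A ((TensorProduct.assoc k M A A).symm x) =
      (TensorProduct.assoc k N A A).symm (f.rTensor (A ⊗[k] A) x) := by
  induction x with
  | zero => simp only [map_zero]
  | add x y hx hy => simp only [map_add, hx, hy]
  | tmul m y =>
    induction y with
    | zero => simp only [TensorProduct.tmul_zero, map_zero]
    | add x y hx hy => simp only [map_add, TensorProduct.tmul_add, hx, hy]
    | tmul a b => simp only [TensorProduct.assoc_symm_tmul, LinearMap.rTensor_tmul]

lemma tail_nat {A : Type u} [CommRing A] [Bialgebra k A] {M N : Type u} [AddCommGroup M]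
    [Module k M] [AddCommGroup N] [Module k N] (f : M →ₗ[k] N) (x : M ⊗[k] A) :
    Hoch.tail k A N (f.rTensor A x) = (f.rTensor A).rTensor A (Hoch.tail k A M x) := by
  induction x with
  | zero => simp only [map_zero]
  | add x y hx hy => simp only [map_add, hx, hy]
  | tmul m a => rw [LinearMap.rTensor_tmul, Hoch.tail_tmul, Hoch.tail_tmul, assoc_symm_nat,
      LinearMap.rTensor_tmul]

variable {E : Gp k}

/-- morphisms commute with the differential -/
lemma cmap_d (M N : GMod E) (f : M.V →ₗ[k] N.V)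
    (hf : ∀ v, N.co.coact (f v) = f.rTensor E.O (M.co.coact v)) :
    ∀ (n : ℕ) (x : M.C n), N.d n (cmap M N f n x) = cmap M N f (n + 1) (M.d n x)
  | 0, x => by
    change N.co.coact (f x) - (f x) ⊗ₜ (1 : E.O) = f.rTensor E.O (M.co.coact x - x ⊗ₜ (1 : E.O))
    rw [map_sub, hf, LinearMap.rTensor_tmul]
  | n + 1, x => by
    have ih := cmap_d M N f hf n
    have h1 : (N.d n).rTensor E.O ((cmap M N f n).rTensor E.O x) =
        (cmap M N f (n + 1)).rTensor E.O ((M.d n).rTensor E.O x) := by
      rw [← LinearMap.comp_apply, ← LinearMap.comp_apply, ← LinearMap.rTensor_comp,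
        ← LinearMap.rTensor_comp]
      congr 2
      exact LinearMap.ext ih
    have h2 := tail_nat (A := E.O) (cmap M N f n) x
    change (N.d n).rTensor E.O ((cmap M N f n).rTensor E.O x) +
      ((-1 : k) ^ (n + 1)) • Hoch.tail k E.O (Hoch.cochain k E.O N.V n)
        ((cmap M N f n).rTensor E.O x) =
      (cmap M N f (n + 1)).rTensor E.O ((M.d n).rTensor E.O x +
        ((-1 : k) ^ (n + 1)) • Hoch.tail k E.O (Hoch.cochain k E.O M.V n) x)
    rw [h1, map_add, map_smul]
    congr 2

lemma cmap_comp (M N P : GMod E) (f : M.V →ₗ[k] N.V) (g : N.V →ₗ[k] P.V) :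
    ∀ (n : ℕ) (x : M.C n), cmap N P g n (cmap M N f n x) = cmap M P (g ∘ₗ f) n x
  | 0, _ => rfl
  | n + 1, x => by
    have ih := cmap_comp M N P f g n
    change (cmap N P g n).rTensor E.O ((cmap M N f n).rTensor E.O x) =
      (cmap M P (g ∘ₗ f) n).rTensor E.O x
    rw [← LinearMap.comp_apply, ← LinearMap.rTensor_comp]
    congr 2
    exact LinearMap.ext ih

lemma cmap_inj (M N : GMod E) (f : M.V →ₗ[k] N.V) (hf : Function.Injective f) :
    ∀ n : ℕ, Function.Injective (cmap M N f n)
  | 0 => hf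
  | n + 1 => by
    have ih := cmap_inj M N f hf n
    exact Module.Flat.rTensor_preserves_injective_linearMap (M := E.O) (cmap M N f n) ih

end Cochains

section Tensor

variable {k : Type u} [CommRing k] {E : Gp k}

/-- `(V ⊗ A) ⊗ (W ⊗ A) → (V ⊗ W) ⊗ A` -/
abbrev mm (k : Type u) [CommRing k] (A V W : Type u) [CommRing A] [Algebra k A] [AddCommGroup V]
    [Module k V] [AddCommGroup W] [Module k W] :
    (V ⊗[k] A) ⊗[k] (W ⊗[k] A) →ₗ[k] (V ⊗[k] W) ⊗[k] A :=
  TensorProduct.map LinearMap.id (LinearMap.mul' k A) ∘ₗ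
    (AlgebraTensorModule.tensorTensorTensorComm k k k k V A W A).toLinearMap

lemma mm_tmul {A V W : Type u} [CommRing A] [Algebra k A] [AddCommGroup V]
    [Module k V] [AddCommGroup W] [Module k W] (v : V) (a : A) (w : W) (b : A) :
    mm k A V W ((v ⊗ₜ a) ⊗ₜ (w ⊗ₜ b)) = (v ⊗ₜ w) ⊗ₜ (a * b) := by
  simp [mm]

lemma tens_coact (M N : GMod E) (v : M.V) (w : N.V) :
    (M.tens N).co.coact (v ⊗ₜ w) = mm k E.O M.V N.V (M.co.coact v ⊗ₜ N.co.coact w) := rfl

/-- `id ⊗ f` and `mm` -/
lemma mm_lTensor {A V W W' : Type u} [CommRing A] [Algebra k A] [AddCommGroup V]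
    [Module k V] [AddCommGroup W] [Module k W] [AddCommGroup W'] [Module k W'] (f : W →ₗ[k] W')
    (x : V ⊗[k] A) (y : W ⊗[k] A) :
    mm k A V W' (x ⊗ₜ f.rTensor A y) = (f.lTensor V).rTensor A (mm k A V W (x ⊗ₜ y)) := by
  induction x with
  | zero => simp only [TensorProduct.zero_tmul, map_zero]
  | add x y hx hy => simp only [map_add, TensorProduct.add_tmul, hx, hy]
  | tmul v a =>
    induction y with
    | zero => simp only [TensorProduct.tmul_zero, map_zero]
    | add x y hx hy => simp only [map_add, TensorProduct.tmul_add, hx, hy]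
    | tmul w b => simp only [LinearMap.rTensor_tmul, mm_tmul, LinearMap.lTensor_tmul]

/-- if `p V = 0`, then `id_V ⊗ f` is a morphism as soon as `f` is one modulo `p` -/
lemma lTensor_hom (p : ℕ) (M : GMod E) (hM : ∀ m : M.V, (p : k) • m = 0) (X Y : GMod E)
    (f : X.V →ₗ[k] Y.V) (hf : HomP p X Y f) (v : (M.tens X).V) :
    (M.tens Y).co.coact (f.lTensor M.V v) =
      (f.lTensor M.V).rTensor E.O ((M.tens X).co.coact v) := by
  induction v using TensorProduct.induction_on with
  | zero => simp only [map_zero]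
  | add x y hx hy => simp only [map_add, hx, hy]
  | tmul m x =>
    obtain ⟨y, hy⟩ := hf x
    have h1 : Y.co.coact (f x) = f.rTensor E.O (X.co.coact x) + (p : k) • y := by
      rw [← hy]; abel
    have h0 : ∀ z : M.V ⊗[k] E.O, (p : k) • z = 0 := by
      intro z
      induction z using TensorProduct.induction_on with
      | zero => rw [smul_zero]
      | add x y hx hy => rw [smul_add, hx, hy, add_zero]
      | tmul m a => rw [TensorProduct.smul_tmul', hM, TensorProduct.zero_tmul]
    rw [LinearMap.lTensor_tmul]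
    refine (tens_coact M Y m (f x)).trans ?_
    rw [h1, TensorProduct.tmul_add, map_add, ← TensorProduct.smul_tmul, h0,
      TensorProduct.zero_tmul, map_zero, add_zero, mm_lTensor]
    rfl

/-- a morphism is a morphism modulo `p` -/
lemma homP_of_hom (p : ℕ) (X Y : GMod E) (f : X.V →ₗ[k] Y.V) (hf : Hoch.IsComodHom E.O f) :
    HomP p X Y f := by
  intro x
  refine ⟨0, ?_⟩
  have h := LinearMap.congr_fun hf x
  rw [LinearMap.comp_apply, LinearMap.comp_apply] at h
  rw [smul_zero, sub_eq_zero]
  exact h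

end Tensor

section Res

variable {k : Type u} [CommRing k] {G H : Gp k} (φ : G.O →ₐc[k] H.O)

/-- the restricted coaction -/
lemma res_coact (M : GMod G) (v : M.V) :
    (M.res φ).co.coact v = (φ : G.O →ₐ[k] H.O).toLinearMap.lTensor M.V (M.co.coact v) := rfl

lemma lr (X Y : Type u) [AddCommGroup X] [Module k X] [AddCommGroup Y] [Module k Y]
    (f : X →ₗ[k] Y) {A B : Type u} [AddCommGroup A] [Module k A] [AddCommGroup B] [Module k B]
    (g : A →ₗ[k] B) (x : X ⊗[k] A) :
    f.rTensor B (g.lTensor X x) = g.lTensor Y (f.rTensor A x) := by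
  induction x with
  | zero => simp only [map_zero]
  | add x y hx hy => simp only [map_add, hx, hy]
  | tmul v a => simp only [LinearMap.rTensor_tmul, LinearMap.lTensor_tmul]

/-- restriction of morphisms modulo `p` -/
lemma homP_res (p : ℕ) (X Y : GMod G) (f : X.V →ₗ[k] Y.V) (hf : HomP p X Y f) :
    HomP p (X.res φ) (Y.res φ) f := by
  intro x
  obtain ⟨y, hy⟩ := hf x
  refine ⟨(φ : G.O →ₐ[k] H.O).toLinearMap.lTensor Y.V y, ?_⟩
  rw [← map_smul, ← hy, map_sub, ← lr]
  rfl

lemma mm_res {V W A B : Type u} [AddCommGroup V] [Module k V] [AddCommGroup W] [Module k W]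
    [CommRing A] [Algebra k A] [CommRing B] [Algebra k B] (g : A →ₐ[k] B) (x : V ⊗[k] A)
    (y : W ⊗[k] A) :
    mm k B V W (g.toLinearMap.lTensor V x ⊗ₜ g.toLinearMap.lTensor W y) =
      g.toLinearMap.lTensor (V ⊗[k] W) (mm k A V W (x ⊗ₜ y)) := by
  induction x with
  | zero => simp only [TensorProduct.zero_tmul, map_zero]
  | add x y hx hy => simp only [map_add, TensorProduct.add_tmul, hx, hy]
  | tmul v a =>
    induction y with
    | zero => simp only [TensorProduct.tmul_zero, map_zero]
    | add x y hx hy => simp only [map_add, TensorProduct.tmul_add, hx, hy]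
    | tmul w b => simp only [LinearMap.lTensor_tmul, mm_tmul, AlgHom.toLinearMap_apply, map_mul]

/-- restriction commutes with tensor products -/
lemma tens_res_coact (M N : GMod G) (v : M.V ⊗[k] N.V) :
    ((M.res φ).tens (N.res φ)).co.coact v = ((M.tens N).res φ).co.coact v := by
  induction v using TensorProduct.induction_on with
  | zero => simp only [map_zero]
  | add x y hx hy => simp only [map_add, hx, hy]
  | tmul m x =>
    refine (tens_coact (M.res φ) (N.res φ) m x).trans ?_
    rw [res_coact, res_coact]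
    exact mm_res (φ : G.O →ₐ[k] H.O) (M.co.coact m) (N.co.coact x)

/-- restriction of `End T` -/
def resEnd {T : GMod G} (e : EndStr T) : EndStr (T.res φ) where
  co := GLin.comodAlong φ e.co
  ev := by
    refine LinearMap.ext fun x => ?_
    have h := LinearMap.congr_fun e.ev x
    have h2 := tens_res_coact φ e.mod T x
    rw [LinearMap.comp_apply, LinearMap.comp_apply] at h ⊢
    have h3 : (φ : G.O →ₐ[k] H.O).toLinearMap.lTensor T.V
        (T.co.coact ((TensorProduct.lift LinearMap.id) x)) =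
        (φ : G.O →ₐ[k] H.O).toLinearMap.lTensor T.V
          ((TensorProduct.lift LinearMap.id).rTensor G.O ((e.mod.tens T).co.coact x)) :=
      congrArg _ h
    rw [← lr] at h3
    refine h3.trans ?_
    refine congrArg ((TensorProduct.lift LinearMap.id).rTensor H.O) ?_
    exact h2.symm

end Res

/-- every cochain of `M ⊗ O(G)` comes from a stage -/
lemma exists_finset {k : Type u} [CommRing k] (V A B : Type u) [AddCommGroup V] [Module k V]
    [AddCommGroup A] [Module k A] [AddCommGroup B] [Module k B] (b : (V ⊗[k] A) ⊗[k] B) :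
    ∃ F : Finset A, ∀ (X : Type u) [AddCommGroup X] [Module k X] (i : X →ₗ[k] A),
      (∀ a ∈ F, a ∈ LinearMap.range i) → b ∈ LinearMap.range ((i.lTensor V).rTensor B) := by
  classical
  induction b using TensorProduct.induction_on with
  | zero => exact ⟨∅, fun X _ _ i _ => zero_mem _⟩
  | add x y hx hy =>
    obtain ⟨F, hF⟩ := hx
    obtain ⟨F', hF'⟩ := hy
    exact ⟨F ∪ F', fun X _ _ i hi => add_mem (hF X i fun a ha => hi a (Finset.mem_union_left _ ha))
      (hF' X i fun a ha => hi a (Finset.mem_union_right _ ha))⟩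
  | tmul x b =>
    induction x using TensorProduct.induction_on with
    | zero => exact ⟨∅, fun X _ _ i _ => by rw [TensorProduct.zero_tmul]; exact zero_mem _⟩
    | add x y hx hy =>
      obtain ⟨F, hF⟩ := hx
      obtain ⟨F', hF'⟩ := hy
      exact ⟨F ∪ F', fun X _ _ i hi => by
        rw [TensorProduct.add_tmul]
        exact add_mem (hF X i fun a ha => hi a (Finset.mem_union_left _ ha))
          (hF' X i fun a ha => hi a (Finset.mem_union_right _ ha))⟩
    | tmul v a =>
      refine ⟨{a}, fun X _ _ i hi => ?_⟩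
      obtain ⟨x, hx⟩ := hi a (Finset.mem_singleton_self a)
      exact ⟨(v ⊗ₜ x) ⊗ₜ b, by rw [LinearMap.rTensor_tmul, LinearMap.lTensor_tmul, hx]⟩

/-- **Lemma S.** -/
theorem lemmaS (p : ℕ) : LemmaS.{u} p := by
  intro k _ G H φ hCD hLam M _ hM c hc
  obtain ⟨b, hb⟩ := hCD M hM c hc
  obtain ⟨F, hF⟩ := exists_finset (k := k) M.V G.O H.O b
  obtain ⟨S, hS⟩ := hLam F
  obtain ⟨b', hb'⟩ := hF S.Ok.V S.i hS
  -- the three modules
  let X : GMod H := M.tens (S.Ok.res φ)
  let Y : GMod H := M.tens ((reg G).res φ)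
  let Z : GMod H := M.tens (S.E.mod.res φ)
  have hi : ∀ v, Y.co.coact (S.i.lTensor M.V v) = (S.i.lTensor M.V).rTensor H.O (X.co.coact v) :=
    lTensor_hom p M hM (S.Ok.res φ) ((reg G).res φ) S.i
      (homP_res φ p S.Ok (reg G) S.i (homP_of_hom p S.Ok (reg G) S.i S.hom))
  have hl : ∀ v, Z.co.coact (S.l.lTensor M.V v) = (S.l.lTensor M.V).rTensor H.O (X.co.coact v) :=
    lTensor_hom p M hM (S.Ok.res φ) (S.E.mod.res φ) S.l
      (homP_res φ p S.Ok S.E.mod S.l S.lhom)
  have h1 : X.d 1 b' = cmap M X (tmulR M (S.Ok.res φ) S.e) 2 c := by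
    apply cmap_inj X Y (S.i.lTensor M.V) (S.inj M.V hM) 2
    rw [← cmap_d X Y (S.i.lTensor M.V) hi 1 b', cmap_comp]
    have e1 : cmap X Y (S.i.lTensor M.V) 1 b' = b := hb'
    rw [e1, hb]
    congr 2
    refine LinearMap.ext fun m => ?_
    change m ⊗ₜ (1 : G.O) = S.i.lTensor M.V (m ⊗ₜ S.e)
    rw [LinearMap.lTensor_tmul, S.ie]
  refine ⟨S.T.res φ, ⟨S.lat.free, S.lat.fin, S.lat.nontriv⟩, resEnd φ S.E, ?_⟩
  refine ⟨cmap X Z (S.l.lTensor M.V) 1 b', ?_⟩
  refine (cmap_d X Z (S.l.lTensor M.V) hl 1 b').trans ?_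
  rw [h1, cmap_comp]
  refine LinearMap.congr_fun ?_ c
  congr 1
  refine LinearMap.ext fun m => ?_
  change S.l.lTensor M.V (m ⊗ₜ S.e) = m ⊗ₜ (1 : Module.End k S.T.V)
  obtain ⟨f, hf⟩ := S.le
  rw [LinearMap.lTensor_tmul, hf, TensorProduct.tmul_add, TensorProduct.tmul_smul,
    TensorProduct.smul_tmul', hM, TensorProduct.zero_tmul, add_zero]

end Groth.Agent.ResProp.EF.K471
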