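import Groth.Agent.ResProp.EF.K65.Out
import Groth.Agent.ResProp.EF.K701.EndStr
import Groth.Agent.ResProp.EF.K749.OutDef
import Mathlib.RingTheory.Flat.Basic
import Mathlib.LinearAlgebra.TensorProduct.Quotient
import Mathlib.Algebra.Module.Torsion.Basic

/-!
# `K749.Out p G` gives `K65.LamB p G`
-/

set_option autoImplicit false

universe u

open TensorProduct

noncomputable section

namespace Groth.Agent.ResProp.EF.K471

open Grp K65

section InjP

variable {k : Type u} [CommRing k]

/-- `(p)` is maximal in `ℤ_(p)`. -/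
lemma isMaximal_span (p : ℕ) [hk : IsLb p k] : (Ideal.span {(p : k)}).IsMaximal := by
  rw [Ideal.isMaximal_iff]
  constructor
  · intro h
    exact hk.not_unit (isUnit_of_dvd_one (Ideal.mem_span_singleton.1 h))
  · intro J x _ hx hJ
    have hu : IsUnit x := hk.unit_of x fun h => hx (Ideal.mem_span_singleton.2 h)
    rw [← Ideal.eq_top_iff_one]
    exact Ideal.eq_top_of_isUnit_mem J hJ hu

lemma one_tmul_eq_zero (p : ℕ) {X : Type u} [AddCommGroup X] [Module k X] (x : X)
    (h : (1 : k ⧸ Ideal.span {(p : k)}) ⊗ₜ[k] x = 0) : ∃ x' : X, x = (p : k) • x' := by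
  have h1 := congrArg (TensorProduct.quotTensorEquivQuotSMul X (Ideal.span {(p : k)})) h
  rw [map_zero] at h1
  have h2 : (1 : k ⧸ Ideal.span {(p : k)}) = Ideal.Quotient.mk _ (1 : k) := (map_one _).symm
  rw [h2, TensorProduct.quotTensorEquivQuotSMul_mk_tmul, one_smul,
    Submodule.Quotient.mk_eq_zero, Submodule.ideal_span_singleton_smul] at h1
  obtain ⟨x', _, hx'⟩ := Submodule.mem_smul_pointwise_iff_exists _ _ _ |>.1 h1
  exact ⟨x', hx'.symm⟩

lemma exists_one_tmul (p : ℕ) {X : Type u} [AddCommGroup X] [Module k X]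
    (z : (k ⧸ Ideal.span {(p : k)}) ⊗[k] X) :
    ∃ x : X, z = (1 : k ⧸ Ideal.span {(p : k)}) ⊗ₜ[k] x := by
  induction z with
  | zero => exact ⟨0, by rw [TensorProduct.tmul_zero]⟩
  | add a b ha hb =>
    obtain ⟨x, rfl⟩ := ha
    obtain ⟨y, rfl⟩ := hb
    exact ⟨x + y, by rw [TensorProduct.tmul_add]⟩
  | tmul r x =>
    obtain ⟨r, rfl⟩ := Ideal.Quotient.mk_surjective r
    refine ⟨r • x, ?_⟩
    rw [TensorProduct.tmul_smul, TensorProduct.smul_tmul']
    congr 1
    rw [Algebra.smul_def, mul_one]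
    rfl

/-- a map which is injective mod `p` stays so after tensoring with any module killed by `p` -/
theorem injP_of (p : ℕ) [hk : IsLb p k] {X Y : Type u} [AddCommGroup X] [Module k X]
    [AddCommGroup Y] [Module k Y] (j : X →ₗ[k] Y)
    (h : ∀ (x : X) (y : Y), j x = (p : k) • y → ∃ x' : X, x = (p : k) • x') : InjP p j := by
  intro M _ _ hM
  haveI := isMaximal_span (k := k) p
  letI : Field (k ⧸ Ideal.span {(p : k)}) := Ideal.Quotient.field _
  have ht : Module.IsTorsionBySet k M (Ideal.span {(p : k)} : Set k) := by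
    rintro m ⟨a, ha⟩
    obtain ⟨b, rfl⟩ := Ideal.mem_span_singleton'.1 ha
    change (b * (p : k)) • m = 0
    rw [mul_smul, hM, smul_zero]
  letI : Module (k ⧸ Ideal.span {(p : k)}) M := ht.module
  haveI : IsScalarTower k (k ⧸ Ideal.span {(p : k)}) M := ht.isScalarTower
  -- injectivity after base change to the field
  have h1 : Function.Injective (j.baseChange (k ⧸ Ideal.span {(p : k)})) := by
    rw [injective_iff_map_eq_zero]
    intro z hz
    obtain ⟨x, rfl⟩ := exists_one_tmul p z
    rw [LinearMap.baseChange_tmul] at hz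
    obtain ⟨y, hy⟩ := one_tmul_eq_zero p _ hz
    obtain ⟨x', hx'⟩ := h x y hy
    rw [hx', TensorProduct.tmul_smul, TensorProduct.smul_tmul', Algebra.smul_def, mul_one]
    have : algebraMap k (k ⧸ Ideal.span {(p : k)}) (p : k) = 0 :=
      Ideal.Quotient.eq_zero_iff_mem.2 (Ideal.mem_span_singleton_self _)
    rw [this, TensorProduct.zero_tmul]
  have h2 : Function.Injective ((j.baseChange (k ⧸ Ideal.span {(p : k)})).lTensor M) :=
    Module.Flat.lTensor_preserves_injective_linearMap _ h1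
  let eX := AlgebraTensorModule.cancelBaseChange k (k ⧸ Ideal.span {(p : k)})
    (k ⧸ Ideal.span {(p : k)}) M X
  let eY := AlgebraTensorModule.cancelBaseChange k (k ⧸ Ideal.span {(p : k)})
    (k ⧸ Ideal.span {(p : k)}) M Y
  have h3 : ∀ z, j.lTensor M (eX z) =
      eY ((j.baseChange (k ⧸ Ideal.span {(p : k)})).lTensor M z) := by
    intro z
    induction z with
    | zero => simp only [map_zero]
    | add a b ha hb => simp only [map_add, ha, hb]
    | tmul m z =>
      obtain ⟨x, rfl⟩ := exists_one_tmul p z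
      rw [LinearMap.lTensor_tmul, LinearMap.baseChange_tmul]
      simp only [eX, eY, AlgebraTensorModule.cancelBaseChange_tmul, one_smul,
        LinearMap.lTensor_tmul]
  intro a b hab
  obtain ⟨a, rfl⟩ := eX.surjective a
  obtain ⟨b, rfl⟩ := eX.surjective b
  rw [h3, h3] at hab
  rw [h2 (eY.injective hab)]

end InjP

/-- **(OUT) of helper749 gives (OUT) of helper65.** -/
theorem out_lamB (p : ℕ) {k : Type u} [CommRing k] [hk : IsLb p k] (G : Gp k)
    (hG : K749.Out p G) : LamB p G := by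
  intro F
  obtain ⟨T, O, j, e, s, hT, hP, hW⟩ := hG (Submodule.span k (F : Set G.O))
    (Submodule.fg_span F.finite_toSet)
  obtain ⟨E⟩ := K701.EndT.nonempty_endStr T hT.free hT.fin
  have hs : ∀ (q : O.V) (v : T.V), ∃ y, T.co.coact (s (q ⊗ₜ v)) =
      s.rTensor G.O ((ComodTens.Comod.tensor O.co T.co).coact (q ⊗ₜ[k] v)) + (p : k) • y := by
    intro q v
    obtain ⟨w, hw⟩ := hP.hom_s (q ⊗ₜ v)
    exact ⟨w, by rw [← hw]; abel⟩
  haveI := hT.free
  obtain ⟨f, hf⟩ := K701.EndT.exists_eq_one_add (p : k) (TensorProduct.curry s e) (by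
    intro v
    obtain ⟨t', ht'⟩ := hP.unit v
    refine ⟨t', ?_⟩
    change s (e ⊗ₜ v) = _
    rw [← ht']; abel)
  refine ⟨⟨O, j, LinearMap.ext hP.hom_j, injP_of p j hP.inj, e, hP.j_e, T, hT, E,
    TensorProduct.curry s, K701.EndT.curry_mod_endStr O T hT.free hT.fin E (p : k) s hs,
    ⟨f, hf⟩⟩, fun a ha => ?_⟩
  exact hW (Submodule.subset_span ha)

end Groth.Agent.ResProp.EF.K471
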